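import Cfsg.Agent.H54.ChevCtx
import Cfsg.Agent.H54.ChevSylow

/-!
Root elements of a simply laced datum in characteristic two, through a packed table of root sums.
-/

set_option autoImplicit false
set_option linter.unusedSectionVars false

namespace H56.Inv

open Cfsg.Lie H52

/-- A packed table of root sums: in `row r`, the 8-bit field `s` holds `k + 1` when `r + s` is the root `k`. -/
structure Tab where
  /-- the row of a root -/
  row : ℕ → ℕ
  /-- the pairs `(s, k + 1)` of a row -/
  lst : ℕ → List (ℕ × ℕ)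

/-- The code of a chain. -/
def code1 (L : List (ℕ × ℤ)) : ℕ := match L with | [] => 0 | p :: _ => p.1 + 1

/-- Packing of a row. -/
def packRow : List (ℕ × List (ℕ × ℤ)) → ℕ
  | [] => 0
  | (k, L) :: R => code1 L <<< (8 * k) ||| packRow R

/-- The table agrees with the datum and all chains have length one. -/
def tabOK (D : ChevalleyDatum) (T : Tab) : Bool :=
  (List.range D.nroots).all fun r => (T.row r == packRow (rowList D r)) &&
    (T.lst r == (rowList D r).map fun e => (e.1, code1 e.2)) &&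
    (rowList D r).all fun e => (e.2.length == 1) &&
      e.2.all fun p => decide (p.1 + 1 < 256 ∧ (p.2 = 1 ∨ p.2 = -1))

/-- The sum of two roots, shifted by one; `0` if it is not a root. -/
def Tab.add (T : Tab) (r s : ℕ) : ℕ := (T.row r >>> (8 * s)) % 256

theorem field_lor (a b s : ℕ) :
    ((a ||| b) >>> (8 * s)) % 256 = ((a >>> (8 * s)) % 256) ||| ((b >>> (8 * s)) % 256) := by
  rw [Nat.shiftRight_or_distrib, show (256 : ℕ) = 2 ^ 8 from rfl, Nat.or_mod_two_pow]

theorem field_shift {v : ℕ} (hv : v < 256) (k s : ℕ) :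
    ((v <<< (8 * k)) >>> (8 * s)) % 256 = if s = k then v else 0 := by
  rcases Nat.lt_trichotomy s k with h | h | h
  · rw [if_neg h.ne, Nat.shiftLeft_eq, Nat.shiftRight_eq_div_pow,
      show 8 * k = 8 * (k - s - 1) + (8 + 8 * s) by omega, pow_add, pow_add, ← mul_assoc, ← mul_assoc,
      Nat.mul_div_cancel _ (pow_pos (by norm_num) _)]
    exact Nat.mul_mod_left _ _
  · subst h
    rw [if_pos rfl, Nat.shiftLeft_shiftRight, Nat.mod_eq_of_lt hv]
  · rw [if_neg h.ne', Nat.shiftLeft_eq, Nat.shiftRight_eq_div_pow,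
      show 8 * s = 8 * (s - k - 1) + 8 + 8 * k by omega, pow_add,
      Nat.mul_div_mul_right _ _ (pow_pos (by norm_num) _), Nat.div_eq_of_lt ?_]
    exact lt_of_lt_of_le hv (le_trans (by norm_num) (Nat.pow_le_pow_right (by norm_num) (by omega : 8 ≤ _)))

theorem packRow_field (R : List (ℕ × List (ℕ × ℤ))) (hn : (R.map Prod.fst).Nodup)
    (hs : ∀ e ∈ R, code1 e.2 < 256) (s : ℕ) :
    ((packRow R) >>> (8 * s)) % 256 = code1 (rowGet R s) := by
  induction R with
  | nil => simp [packRow, rowGet, code1]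
  | cons e R ih =>
    obtain ⟨k, L⟩ := e
    simp only [List.map_cons, List.nodup_cons] at hn
    have ih' := ih hn.2 fun e he => hs e (List.mem_cons_of_mem _ he)
    rw [packRow, field_lor, field_shift (hs (k, L) List.mem_cons_self), ih']
    by_cases h : s = k
    · subst h
      rw [if_pos rfl, rowGet_of_not_mem R s hn.1]
      simp [rowGet, code1]
    · rw [if_neg h]
      simp [rowGet, Ne.symm h]

variable {D : ChevalleyDatum}

/-- A simply laced datum with its table. -/
structure Sys (D : ChevalleyDatum) where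
  /-- the context -/
  C : H54.Ctx D
  /-- the table -/
  T : Tab
  /-- the table is right -/
  ok : tabOK D T = true

namespace Sys

variable (S : Sys D)

include S

theorem add_spec {r : ℕ} (hr : r < D.nroots) (s : ℕ) :
    (S.T.add r s = 0 ∧ D.chainEntry r s = []) ∨
      ∃ k M, k < D.nroots ∧ S.T.add r s = k + 1 ∧ D.chainEntry r s = [(k, M)] ∧ (M = 1 ∨ M = -1) := by
  have hok := S.ok
  simp only [tabOK, List.all_eq_true, List.mem_range, Bool.and_eq_true, beq_iff_eq, decide_eq_true_eq] at hok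
  obtain ⟨⟨h1, -⟩, h2⟩ := hok r hr
  have hn := S.C.hC.rowKeys_nodup r
  have hs : ∀ e ∈ rowList D r, code1 e.2 < 256 := fun e he => by
    obtain ⟨hl, hb⟩ := h2 e he
    obtain ⟨p, hp⟩ := List.length_eq_one_iff.1 hl
    rw [hp] at hb ⊢
    exact (hb p List.mem_cons_self).1
  have key : S.T.add r s = code1 (D.chainEntry r s) := by
    rw [Tab.add, h1, packRow_field _ hn hs, chainEntry_eq_rowGet]
  by_cases h0 : D.chainEntry r s = []
  · exact Or.inl ⟨by rw [key, h0]; rfl, h0⟩
  · refine Or.inr ?_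
    have hmem := rowGet_mem (rowList D r) s (by rw [← chainEntry_eq_rowGet]; exact h0)
    rw [← chainEntry_eq_rowGet] at hmem
    obtain ⟨hl, hb⟩ := h2 _ hmem
    obtain ⟨⟨k, M⟩, hp⟩ := List.length_eq_one_iff.1 hl
    simp only at hp
    have hb' := hb (k, M) (by simp only [hp, List.mem_singleton])
    exact ⟨k, M, S.C.hC.target_lt (r := r) (s := s) (e := (k, M)) (by rw [hp]; exact List.mem_cons_self),
      by rw [key, hp]; rfl, hp, hb'.2⟩

theorem add_mem_lst {r : ℕ} (hr : r < D.nroots) {s k : ℕ} (h : S.T.add r s = k + 1) :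
    (s, k + 1) ∈ S.T.lst r := by
  have hok := S.ok
  simp only [tabOK, List.all_eq_true, List.mem_range, Bool.and_eq_true, beq_iff_eq] at hok
  rw [(hok r hr).1.2]
  rcases S.add_spec hr s with ⟨h0, -⟩ | ⟨k', M, -, hk, hc, -⟩
  · omega
  · obtain rfl : k = k' := by omega
    have hmem := rowGet_mem (rowList D r) s (by rw [← chainEntry_eq_rowGet, hc]; simp)
    rw [← chainEntry_eq_rowGet, hc] at hmem
    exact List.mem_map.2 ⟨_, hmem, rfl⟩

theorem add_lt {r s k : ℕ} (hr : r < D.nroots) (h : S.T.add r s = k + 1) : k < D.nroots := by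
  rcases S.add_spec hr s with ⟨h0, -⟩ | ⟨k', -, hk, hk', -⟩
  · omega
  · omega

theorem chainRoot_high {r : ℕ} (hr : r < D.nroots) (s : ℕ) {m : ℕ} (hm : 2 ≤ m) :
    D.chainRoot r s m = none := by
  obtain ⟨m, rfl⟩ : ∃ m', m = m' + 2 := ⟨m - 2, by omega⟩
  rcases S.add_spec hr s with ⟨-, h⟩ | ⟨k, M, -, -, h, -⟩ <;>
    simp [ChevalleyDatum.chainRoot, h]

variable {F : Type*} [Field F]

theorem comm_zero {r s : ℕ} (hr : r < D.nroots) (hs : s < D.nroots) (hne : s ≠ D.neg r)
    (h : S.T.add r s = 0) (t u : F) : rt D s u * rt D r t = rt D r t * rt D s u := by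
  by_cases hrs : s = r
  · subst hrs; rw [S.C.hC.rt_mul, S.C.hC.rt_mul, add_comm]
  rcases S.add_spec hr s with ⟨-, hc⟩ | ⟨k, M, -, hk, -, -⟩
  · rw [S.C.hC.comm_rt hr hs hrs hne]
    have e1 : D.chainRoot r s 1 = none := by simp [ChevalleyDatum.chainRoot, hc]
    have : D.commTerms r s = [] := by
      simp [ChevalleyDatum.commTerms, S.chainRoot_high hr s (m := 2) le_rfl,
        S.chainRoot_high hs r (m := 2) le_rfl, S.chainRoot_high hr s (m := 3) (by norm_num),
        S.chainRoot_high hs r (m := 3) (by norm_num), e1]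
    simp [ChevalleyDatum.commWord, this, H52.wordRt]
  · omega

theorem comm_one [CharP F 2] {r s k : ℕ} (hr : r < D.nroots) (hs : s < D.nroots)
    (h : S.T.add r s = k + 1) (t u : F) :
    rt D s u * rt D r t = rt D r t * rt D s u * rt D k (t * u) := by
  rcases S.add_spec hr s with ⟨h0, -⟩ | ⟨k', M, -, hk, hc, hM⟩
  · omega
  · obtain rfl : k = k' := by omega
    obtain ⟨-, -, hrs, hne, -⟩ := S.C.hC.entry_facts (r := r) (s := s) (by rw [hc]; simp)
    rw [S.C.hC.comm_rt hr hs hrs hne]
    have e1 : D.chainRoot r s 1 = some k := by simp [ChevalleyDatum.chainRoot, hc]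
    have e2 : D.chainM r s 1 = M := by simp [ChevalleyDatum.chainM, hc]
    have : D.commTerms r s = [(k, M, 1, 1)] := by
      simp [ChevalleyDatum.commTerms, S.chainRoot_high hr s (m := 2) le_rfl,
        S.chainRoot_high hs r (m := 2) le_rfl, S.chainRoot_high hr s (m := 3) (by norm_num),
        S.chainRoot_high hs r (m := 3) (by norm_num), e1, e2]
    rw [ChevalleyDatum.commWord, this]
    congr 1
    simp only [List.map_cons, List.map_nil, H52.wordRt, List.prod_singleton, pow_one, CharTwo.neg_eq]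
    congr 1
    rcases hM with rfl | rfl <;> simp [CharTwo.neg_eq]

theorem rt_self [CharP F 2] (r : ℕ) (t : F) : rt D r t * rt D r t = 1 := by
  rw [S.C.hC.rt_mul, CharTwo.add_self_eq_zero, S.C.hC.rt_zero]

theorem rt_inv' [CharP F 2] (r : ℕ) (t : F) : (rt D r t)⁻¹ = rt D r t := by
  rw [S.C.hC.rt_inv, CharTwo.neg_eq]

theorem conj_zero [CharP F 2] {r s : ℕ} (hr : r < D.nroots) (hs : s < D.nroots) (hne : s ≠ D.neg r)
    (h : S.T.add r s = 0) (t u : F) : rt D r t * rt D s u * (rt D r t)⁻¹ = rt D s u := by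
  rw [← S.comm_zero hr hs hne h, mul_inv_cancel_right]

theorem conj_one [CharP F 2] {r s k : ℕ} (hr : r < D.nroots) (hs : s < D.nroots)
    (h : S.T.add r s = k + 1) (t u : F) :
    rt D r t * rt D s u * (rt D r t)⁻¹ = rt D s u * rt D k (t * u) := by
  rw [S.rt_inv', mul_assoc, S.comm_one hr hs h, ← mul_assoc, ← mul_assoc, S.rt_self, one_mul]

end Sys

end H56.Inv
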