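import Cfsg.Agent.H56.Invol.Group

/-!
A certificate for the classification of involutions of a simply laced group in characteristic two:
a graph of states `(P, A)`, meaning "an involution in `(∏_{p ∈ P} x_p(1)) · ⟨X_i | i ∈ A⟩`".
-/

set_option autoImplicit false
set_option linter.unusedSectionVars false

namespace H56.Inv

open Cfsg.Lie H52

/-- The ways to treat a state. -/
inductive Kind
  | done
  | kill (s r c : ℕ)
  | force (s w N c : ℕ)
  | branch (s c₀ c₁ : ℕ)
  | refl (r c : ℕ)
  | conj (r c : ℕ)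

/-- A state with its treatment. -/
structure Node where
  /-- the known factors -/
  P : List ℕ
  /-- the mask of the unknown factors -/
  A : ℕ
  /-- the treatment -/
  kind : Kind

/-- Removing a root from a mask. -/
def clr (A s : ℕ) : ℕ := A ^^^ (1 <<< s)

/-- The roots of a mask among the positive ones. -/
def members (n A : ℕ) : List ℕ := (List.range' (n / 2) (n - n / 2)).filter A.testBit

/-- A sum is no root or lies in the mask. -/
def okSum (c N : ℕ) : Bool := c == 0 || N.testBit (c - 1)

/-- The expected child. -/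
def childB (node : ℕ → Node) (i c : ℕ) (P : List ℕ) (A : ℕ) : Bool :=
  decide (c < i) && (node c).P == P && (node c).A == A

/-- Splitting off the root `s`. -/
def splitB (n : ℕ) (T : Tab) (P : List ℕ) (A s : ℕ) : Bool :=
  A.testBit s && normB n T s (clr A s) &&
    P.all fun p => normB n T p (clr A s) && decide (s ≠ n - 1 - p) && okSum (T.add p s) (clr A s)

/-- The conditions for removing a coefficient by conjugation. -/
def killB (n : ℕ) (T : Tab) (P : List ℕ) (A s r : ℕ) : Bool :=
  splitB n T P A s && normB n T r (clr A s) && decide (s ≠ n - 1 - r) && okSum (T.add r s) (clr A s) &&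
    (P.all fun p => decide (p ≠ n - 1 - r) && (T.add r p == s + 1 || okSum (T.add r p) (clr A s))) &&
    (P.countP fun p => T.add r p == s + 1) % 2 == 1

/-- The conditions forcing a coefficient to vanish. -/
def forceB (n : ℕ) (T : Tab) (P : List ℕ) (A s w N : ℕ) : Bool :=
  splitB n T P A s && A % 2 ^ (n / 2) == 0 && N &&& clr A s == N && !N.testBit w && (clr A s).testBit w &&
    collect n T 400 (P ++ P) == [] &&
    (decide (n / 2 ≤ s) && sumsIn T s (clr A s) N) &&
    ((members n (clr A s)).all fun i => sumsIn T i (clr A s) N) &&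
    (P.all fun p => decide (n / 2 ≤ p) && sumsIn T p (clr A s) N &&
      (T.add p s == w + 1 || okSum (T.add p s) N)) &&
    (P.countP fun p => T.add p s == w + 1) % 2 == 1

/-- The conditions for scaling a new factor. -/
def branchB (n : ℕ) (T : Tab) (P : List ℕ) (A s : ℕ) : Bool :=
  splitB n T P A s && P.all fun p => T.add s p == 0 && T.add (n - 1 - s) p == 0 &&
    decide (p ≠ n - 1 - s) && decide (p ≠ s)

/-- The test of one node. -/
def nodeOK (n : ℕ) (T : Tab) (reps : List (List ℕ)) (node : ℕ → Node) (i : ℕ) : Bool :=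
  let P := (node i).P
  let A := (node i).A
  match (node i).kind with
  | .done => A == 0 && (P == [] || reps.contains P)
  | .kill s r c => killB n T P A s r && childB node i c P (clr A s)
  | .force s w N c => forceB n T P A s w N && childB node i c P (clr A s)
  | .branch s c₀ c₁ => branchB n T P A s && childB node i c₀ P (clr A s) &&
      childB node i c₁ (collect n T 400 (P ++ [s])) (clr A s)
  | .refl r c => reflB n T r A && decide (c < i) && (node c).A == A &&
      match P.mapM (refl n T r) with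
      | none => false
      | some Q => decide (∀ p ∈ P, p < n) && (node c).P == collect n T 400 Q
  | .conj r c => normB n T r A && childB node i c (collect n T 400 (r :: (P ++ [r]))) A

variable {D : ChevalleyDatum} {F : Type*} [Field F]

/-- The conclusion of the certificate. -/
def Good (D : ChevalleyDatum) {F : Type*} [Field F] (reps : List (List ℕ)) (g : GL D.Idx F) : Prop :=
  g = 1 ∨ ∃ P ∈ reps, ∃ h ∈ D.group F, h * g * h⁻¹ = wp D F P

theorem Good.of_conj {reps : List (List ℕ)} {g g' h : GL D.Idx F} (hh : h ∈ D.group F)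
    (e : h * g * h⁻¹ = g') (hg : Good D reps g') : Good D reps g := by
  subst e
  rcases hg with h1 | ⟨P, hP, k, hk, he⟩
  · exact Or.inl (conj_eq_one_iff.1 h1)
  · exact Or.inr ⟨P, hP, k * h, mul_mem hk hh, by rw [← he]; group⟩

theorem sq_conj' {g g' h : GL D.Idx F} (e : h * g * h⁻¹ = g') (h2 : g * g = 1) : g' * g' = 1 := by
  subst e
  rw [show h * g * h⁻¹ * (h * g * h⁻¹) = h * (g * g) * h⁻¹ by group, h2]; group

theorem testBit_clr {A s i : ℕ} (hs : A.testBit s = true) :
    (clr A s).testBit i = (A.testBit i && decide (i ≠ s)) := by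
  rw [clr, Nat.testBit_xor, Nat.one_shiftLeft, Nat.testBit_two_pow]
  by_cases h : i = s
  · subst h; simp [hs]
  · simp [h, Ne.symm h]

theorem pow_parity {M : Type*} [Monoid M] {b : M} (hb : b * b = 1) {k : ℕ} (hk : k % 2 = 1) : b ^ k = b := by
  rw [← Nat.div_add_mod k 2, hk, pow_succ, pow_mul, pow_two, hb, one_pow, one_mul]

/-- In a product of list elements each followed by `b` or nothing, the extra factors collect at the end. -/
theorem prod_collect {M : Type*} [Monoid M] (a : ℕ → M) (b : M) (m : ℕ → Bool) :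
    ∀ L : List ℕ, (∀ p ∈ L, a p * b = b * a p) →
      (L.map fun p => a p * if m p then b else 1).prod = (L.map a).prod * b ^ L.countP m
  | [], _ => by simp
  | p :: L, h => by
    have ih := prod_collect a b m L fun q hq => h q (List.mem_cons_of_mem _ hq)
    have hc : Commute (L.map a).prod b := Commute.list_prod_left _ _ fun x hx => by
      obtain ⟨q, hq, rfl⟩ := List.mem_map.1 hx
      exact h q (List.mem_cons_of_mem _ hq)
    simp only [List.map_cons, List.prod_cons, ih]
    cases hm : m p
    · rw [List.countP_cons_of_neg (by simp [hm])]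
      simp [mul_assoc]
    · rw [List.countP_cons_of_pos (by simp [hm]), if_pos rfl, pow_succ']
      rw [mul_assoc, mul_assoc, ← mul_assoc b, ← hc.eq]
      group

namespace Sys

variable (S : Sys D)

include S

theorem nElt_mem {r : ℕ} (t : F) : nElt D r t ∈ D.group F := by
  rw [H52.Checked.nElt_eq]
  exact mul_mem (mul_mem (S.C.rt_mem_group _ _) (S.C.rt_mem_group _ _)) (S.C.rt_mem_group _ _)

variable [CharP F 2]

theorem xa_zero : xa D F 0 = ⊥ := by
  rw [eq_bot_iff, xa, Subgroup.closure_le]
  rintro g ⟨i, t, -, h, -⟩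
  simp at h

theorem xa_split {A s : ℕ} (hs : A.testBit s = true) (hn : normB D.nroots S.T s (clr A s) = true)
    {g : GL D.Idx F} (hg : g ∈ xa D F A) : ∃ a : F, ∃ u ∈ xa D F (clr A s), g = rt D s a * u := by
  induction hg using Subgroup.closure_induction with
  | mem g hg =>
    obtain ⟨i, t, hi, hA, rfl⟩ := hg
    by_cases his : i = s
    · subst his; exact ⟨t, 1, one_mem _, by rw [mul_one]⟩
    · exact ⟨0, _, rt_mem_xa hi (by simp [testBit_clr hs, hA, his]) t, by rw [S.C.hC.rt_zero, one_mul]⟩
  | one => exact ⟨0, 1, one_mem _, by rw [S.C.hC.rt_zero, one_mul]⟩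
  | mul x y _ _ hx hy =>
    obtain ⟨a, x', hx', rfl⟩ := hx
    obtain ⟨b, y', hy', rfl⟩ := hy
    refine ⟨a + b, (rt D s b * x' * (rt D s b)⁻¹) * y', mul_mem (S.conj_xa hn b hx') hy', ?_⟩
    rw [← S.C.hC.rt_mul, S.rt_inv']
    calc rt D s a * x' * (rt D s b * y') = rt D s a * (rt D s b * rt D s b) * x' * rt D s b * y' := by
          rw [S.rt_self, mul_one]; group
      _ = _ := by group
  | inv x _ hx =>
    obtain ⟨a, x', hx', rfl⟩ := hx
    refine ⟨a, rt D s a * x'⁻¹ * (rt D s a)⁻¹, S.conj_xa hn a (inv_mem hx'), ?_⟩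
    rw [mul_inv_rev, ← mul_assoc, ← mul_assoc, S.rt_self, one_mul, S.rt_inv']

/-- Above a root outside a closed set of positive roots. -/
theorem not_mem_xa {N : ℕ} (hpos : ∀ i, N.testBit i = true → D.nroots / 2 ≤ i)
    (hcl : ∀ i < D.nroots, N.testBit i = true → sumsIn S.T i N N = true)
    {w : ℕ} (hw : D.nroots / 2 ≤ w) (hwn : w < D.nroots) (hN : N.testBit w = false) {a : F}
    (ha : rt D w a ∈ xa D F N) : a = 0 := by
  let UN : ℕ → Subgroup (GL D.Idx F) := fun k =>
    Subgroup.closure {g | ∃ (i : ℕ) (t : F), k ≤ i ∧ i < D.nroots ∧ N.testBit i = true ∧ g = rt D i t}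
  have le_up : ∀ k, UN k ≤ upper D F k := fun k => by
    rw [Subgroup.closure_le]
    rintro g ⟨i, t, h1, h2, -, rfl⟩
    exact Checked.rt_mem_upper h1 h2 t
  suffices key : ∀ d k, k + d = w + 1 → D.nroots / 2 ≤ k → rt D w a ∈ UN k → a = 0 by
    refine key (w + 1 - D.nroots / 2) _ (by omega) le_rfl ?_
    refine (Subgroup.closure_le _).2 ?_ ha
    rintro g ⟨i, t, hi, hA, rfl⟩
    exact Subgroup.subset_closure ⟨i, t, hpos i hA, hi, hA, rfl⟩
  intro d
  induction d with
  | zero =>
    intro k hk _ h
    obtain rfl : k = w + 1 := by omega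
    exact S.C.hC.rt_mem_upper_succ hw hwn (le_up _ h)
  | succ d ih =>
    intro k hk hk' h
    cases hNk : N.testBit k with
    | false =>
      refine ih (k + 1) (by omega) (by omega) ((Subgroup.closure_le _).2 ?_ h)
      rintro g ⟨i, t, h1, h2, h3, rfl⟩
      refine Subgroup.subset_closure ⟨i, t, ?_, h2, h3, rfl⟩
      rcases h1.eq_or_lt with rfl | h4
      · rw [hNk] at h3; exact Bool.noConfusion h3
      · exact h4
    | true =>
      have hkw : k ≠ w := by rintro rfl; rw [hN] at hNk; exact Bool.noConfusion hNk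
      have hkn : k < D.nroots := by omega
      have hconj : ∀ (b : F), ∀ y ∈ UN (k + 1), rt D k b * y * (rt D k b)⁻¹ ∈ UN (k + 1) := by
        intro b
        have : (UN (k + 1)).map (MulAut.conj (rt D k b)).toMonoidHom ≤ UN (k + 1) := by
          rw [MonoidHom.map_closure, Subgroup.closure_le]
          rintro _ ⟨_, ⟨i, u, h1, h2, h3, rfl⟩, rfl⟩
          show rt D k b * rt D i u * (rt D k b)⁻¹ ∈ UN (k + 1)
          rcases hc : S.T.add k i with _ | c
          · have hne : i ≠ D.neg k := by rw [S.neg_eq hkn]; omega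
            rw [S.conj_zero hkn h2 hne hc]
            exact Subgroup.subset_closure ⟨i, u, h1, h2, h3, rfl⟩
          · rw [S.conj_one hkn h2 hc]
            refine mul_mem (Subgroup.subset_closure ⟨i, u, h1, h2, h3, rfl⟩) ?_
            refine Subgroup.subset_closure ⟨c, _, ?_, S.add_lt hkn hc, S.sumsIn_spec hkn (hcl k hkn hNk) h3 hc, rfl⟩
            rcases S.add_spec hkn i with ⟨h0, -⟩ | ⟨c', M, hc'n, hc', hch, -⟩
            · omega
            · obtain rfl : c = c' := by omega
              have he := S.C.hC.key_chain hkn (k := 0) (e := (c, M)) (by rw [hch]; rfl)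
              have hik := (S.C.hC.key_pos_iff h2).2 (by omega : D.nroots / 2 ≤ i)
              have hkk := (S.C.hC.key_pos_iff hkn).2 hk'
              push_cast at he
              by_contra hck
              rcases (not_lt.1 hck : c ≤ k).eq_or_lt with rfl | hlt
              · linarith
              · have := S.C.hC.key_lt hlt hkn
                linarith
        exact fun y hy => this ⟨y, hy, rfl⟩
      obtain ⟨b, y, hy, he⟩ : ∃ b : F, ∃ y ∈ UN (k + 1), rt D w a = rt D k b * y := by
        revert h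
        generalize rt D w a = g
        intro h
        induction h using Subgroup.closure_induction with
        | mem g hg =>
          obtain ⟨i, t, h1, h2, h3, rfl⟩ := hg
          rcases h1.eq_or_lt with rfl | h4
          · exact ⟨t, 1, one_mem _, by rw [mul_one]⟩
          · exact ⟨0, _, Subgroup.subset_closure ⟨i, t, h4, h2, h3, rfl⟩, by rw [S.C.hC.rt_zero, one_mul]⟩
        | one => exact ⟨0, 1, one_mem _, by rw [S.C.hC.rt_zero, one_mul]⟩
        | mul x y _ _ hx hy =>
          obtain ⟨b, x', hx', rfl⟩ := hx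
          obtain ⟨e, y', hy', rfl⟩ := hy
          refine ⟨b + e, (rt D k e * x' * (rt D k e)⁻¹) * y', mul_mem (hconj e _ hx') hy', ?_⟩
          rw [← S.C.hC.rt_mul, S.rt_inv']
          calc rt D k b * x' * (rt D k e * y') = rt D k b * (rt D k e * rt D k e) * x' * rt D k e * y' := by
                rw [S.rt_self, mul_one]; group
            _ = _ := by group
        | inv x _ hx =>
          obtain ⟨b, x', hx', rfl⟩ := hx
          refine ⟨b, rt D k b * x'⁻¹ * (rt D k b)⁻¹, hconj b _ (inv_mem hx'), ?_⟩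
          rw [mul_inv_rev, ← mul_assoc, ← mul_assoc, S.rt_self, one_mul, S.rt_inv']
      have hkw' : k < w + 1 := by omega
      have hb : b = 0 := by
        refine S.C.hC.rt_mem_upper_succ hk' hkn ?_
        rw [show rt D k b = rt D w a * y⁻¹ by rw [he]; group]
        exact mul_mem (Checked.rt_mem_upper (by omega) hwn a) (inv_mem (le_up _ hy))
      refine ih (k + 1) (by omega) (by omega) ?_
      rw [he, hb, S.C.hC.rt_zero, one_mul]
      exact hy

/-- The step of one state: every involution of the state is good. -/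
def St (D : ChevalleyDatum) (F : Type*) [Field F] (reps : List (List ℕ)) (P : List ℕ) (A : ℕ) : Prop :=
  ∀ u ∈ xa D F A, wp D F P * u * (wp D F P * u) = 1 → Good D reps (wp D F P * u)

theorem clr_le {A s i : ℕ} (hs : A.testBit s = true) (h : (clr A s).testBit i = true) : A.testBit i = true := by
  rw [testBit_clr hs] at h
  simp only [Bool.and_eq_true] at h
  exact h.1

theorem okSum_spec {c N k : ℕ} (h : okSum c N = true) (hc : c = k + 1) : N.testBit k = true := by
  subst hc
  simpa [okSum] using h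

/-- The image in the normalizer modulo the subgroup of a mask. -/
noncomputable def qmk (D : ChevalleyDatum) (F : Type*) [Field F] (N : ℕ)
    (x : ↥(Subgroup.normalizer (xa D F N : Set (GL D.Idx F)))) :
    ↥(Subgroup.normalizer (xa D F N : Set (GL D.Idx F))) ⧸
      (xa D F N).subgroupOf (Subgroup.normalizer (xa D F N : Set (GL D.Idx F))) :=
  QuotientGroup.mk x

omit S in
theorem qmk_eq_one {N : ℕ} {x : GL D.Idx F} (hx : x ∈ Subgroup.normalizer (xa D F N : Set (GL D.Idx F)))
    (h : x ∈ xa D F N) : qmk D F N ⟨x, hx⟩ = 1 := by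
  rw [qmk, QuotientGroup.eq_one_iff, Subgroup.mem_subgroupOf]
  exact h

theorem kill_step {reps : List (List ℕ)} {P : List ℕ} {A s r : ℕ} (hk : killB D.nroots S.T P A s r = true)
    (hst : St D F reps P (clr A s)) : St D F reps P A := by
  simp only [killB, splitB, Bool.and_eq_true, decide_eq_true_eq, List.all_eq_true, Bool.or_eq_true,
    beq_iff_eq] at hk
  obtain ⟨⟨⟨⟨⟨⟨⟨hs, hns⟩, hP⟩, hnr⟩, hsr⟩, hrs⟩, hPr⟩, hodd⟩ := hk
  intro u hu h2
  obtain ⟨a, u', hu', rfl⟩ := S.xa_split hs hns hu
  set A' := clr A s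
  set H := Subgroup.normalizer (xa D F A' : Set (GL D.Idx F))
  have hsn : s < D.nroots := by
    simp only [normB, Bool.and_eq_true, decide_eq_true_eq] at hns; exact hns.1.1
  have hrn : r < D.nroots := by
    simp only [normB, Bool.and_eq_true, decide_eq_true_eq] at hnr; exact hnr.1.1
  let R : ↥H := ⟨rt D r a, S.rt_mem_normalizer hnr a⟩
  let B : ↥H := ⟨rt D s a, S.rt_mem_normalizer hns a⟩
  let X : ℕ → ↥H := fun p =>
    if h : normB D.nroots S.T p A' = true then ⟨rt D p 1, S.rt_mem_normalizer h 1⟩ else 1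
  have hX : ∀ p ∈ P, (X p : GL D.Idx F) = rt D p 1 := fun p hp => by simp [X, (hP p hp).1.1]
  have hPn : ∀ p ∈ P, p < D.nroots := fun p hp => by
    have := (hP p hp).1.1
    simp only [normB, Bool.and_eq_true, decide_eq_true_eq] at this; exact this.1.1
  let W : ↥H := (P.map X).prod
  have hW : (W : GL D.Idx F) = wp D F P := by
    simp only [W, Subgroup.val_list_prod, List.map_map, wp]
    exact congrArg List.prod (List.map_congr_left fun p hp => hX p hp)
  let π := QuotientGroup.mk' ((xa D F A').subgroupOf H)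
  have hπ : ∀ x y : ↥H, (x : GL D.Idx F)⁻¹ * y ∈ xa D F A' → π x = π y := fun x y h =>
    QuotientGroup.eq.2 (by rw [Subgroup.mem_subgroupOf]; simpa using h)
  have hb2 : π B * π B = 1 := by
    rw [← map_mul, show B * B = 1 from Subtype.ext (S.rt_self s a), map_one]
  have hm : ∀ p ∈ P, π R * π (X p) * (π R)⁻¹ = π (X p) * if S.T.add r p == s + 1 then π B else 1 := by
    intro p hp
    obtain ⟨hne, hor⟩ := hPr p hp
    have hne' : p ≠ D.neg r := by rw [S.neg_eq hrn]; exact hne
    rw [← map_inv, ← map_mul, ← map_mul]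
    by_cases hm : S.T.add r p = s + 1
    · rw [if_pos (by simpa using hm), ← map_mul]
      refine congrArg π (Subtype.ext ?_)
      simp only [Subgroup.coe_mul, Subgroup.coe_inv, hX p hp, R, B]
      rw [S.conj_one hrn (hPn p hp) hm, mul_one]
    · rw [if_neg (by simpa using hm), mul_one]
      refine hπ _ _ ?_
      simp only [Subgroup.coe_mul, Subgroup.coe_inv, hX p hp, R]
      rcases hc : S.T.add r p with _ | c
      · rw [S.conj_zero hrn (hPn p hp) hne' hc, inv_mul_cancel]; exact one_mem _
      · rw [S.conj_one hrn (hPn p hp) hc, mul_inv_rev, mul_assoc, inv_mul_cancel, mul_one]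
        exact inv_mem (rt_mem_xa (S.add_lt hrn hc) (S.okSum_spec (hor.resolve_left hm) hc) _)
  have hcomm : ∀ p ∈ P, π (X p) * π B = π B * π (X p) := by
    intro p hp
    obtain ⟨⟨-, hne⟩, hok⟩ := hP p hp
    rw [← map_mul, ← map_mul]
    refine hπ _ _ ?_
    simp only [Subgroup.coe_mul, hX p hp, B]
    rcases hc : S.T.add p s with _ | c
    · rw [S.comm_zero (hPn p hp) hsn (by rw [S.neg_eq (hPn p hp)]; exact hne) hc, inv_mul_cancel]
      exact one_mem _
    · rw [S.comm_one (hPn p hp) hsn hc, ← mul_assoc, inv_mul_cancel, one_mul]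
      exact rt_mem_xa (S.add_lt (hPn p hp) hc) (S.okSum_spec hok hc) _
  have hRW : π R * π W * (π R)⁻¹ = π W * π B := by
    calc π R * π W * (π R)⁻¹ = MulAut.conj (π R) (π W) := rfl
      _ = (P.map fun p => π (X p) * if S.T.add r p == s + 1 then π B else 1).prod := by
        simp only [W, map_list_prod, List.map_map]
        exact congrArg List.prod (List.map_congr_left fun p hp => hm p hp)
      _ = π W * π B := by
        rw [prod_collect (fun p => π (X p)) (π B) (fun p => S.T.add r p == s + 1) P hcomm, pow_parity hb2 hodd]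
        simp only [W, map_list_prod, List.map_map]; rfl
  have hRB : π R * π B * (π R)⁻¹ = π B := by
    rw [← map_inv, ← map_mul, ← map_mul]
    refine hπ _ _ ?_
    simp only [Subgroup.coe_mul, Subgroup.coe_inv, R, B]
    rcases hc : S.T.add r s with _ | c
    · rw [S.conj_zero hrn hsn (by rw [S.neg_eq hrn]; exact hsr) hc, inv_mul_cancel]; exact one_mem _
    · rw [S.conj_one hrn hsn hc, mul_inv_rev, mul_assoc, inv_mul_cancel, mul_one]
      exact inv_mem (rt_mem_xa (S.add_lt hrn hc) (S.okSum_spec hrs hc) _)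
  have key : π (R * W * B * R⁻¹) = π W := by
    rw [map_mul, map_mul, map_mul, map_inv]
    calc π R * π W * π B * (π R)⁻¹ = (π R * π W * (π R)⁻¹) * (π R * π B * (π R)⁻¹) := by group
      _ = π W := by rw [hRW, hRB, mul_assoc, hb2, mul_one]
  have hmem : (wp D F P)⁻¹ * (rt D r a * wp D F P * rt D s a * (rt D r a)⁻¹) ∈ xa D F A' := by
    have := QuotientGroup.eq.1 key.symm
    rw [Subgroup.mem_subgroupOf] at this
    simpa [hW, R, B, mul_assoc] using this
  have e : rt D r a * (wp D F P * (rt D s a * u')) * (rt D r a)⁻¹ =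
      wp D F P * ((wp D F P)⁻¹ * (rt D r a * wp D F P * rt D s a * (rt D r a)⁻¹) *
        (rt D r a * u' * (rt D r a)⁻¹)) := by group
  refine Good.of_conj (S.C.rt_mem_group r a) rfl ?_
  rw [e]
  exact hst _ (mul_mem hmem (S.conj_xa hnr a hu')) (sq_conj' e h2)

theorem force_step {reps : List (List ℕ)} {P : List ℕ} {A s w N : ℕ}
    (hk : forceB D.nroots S.T P A s w N = true) (hst : St D F reps P (clr A s)) : St D F reps P A := by
  simp only [forceB, splitB, Bool.and_eq_true, decide_eq_true_eq, List.all_eq_true, Bool.or_eq_true,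
    beq_iff_eq, Bool.not_eq_true'] at hk
  obtain ⟨⟨⟨⟨⟨⟨⟨⟨⟨⟨⟨hs, hns⟩, hP⟩, hA0⟩, hNA⟩, hNw⟩, hAw⟩, hsq⟩, hs2, hsN⟩, hmem⟩, hPN⟩, hodd⟩ := hk
  intro u hu h2
  obtain ⟨a, u', hu', rfl⟩ := S.xa_split hs hns hu
  set A' := clr A s with hA'
  have hApos : ∀ i, A'.testBit i = true → D.nroots / 2 ≤ i := fun i hi => by
    by_contra hlt
    have := congrArg (fun x => x.testBit i) hA0
    simp [Nat.testBit_mod_two_pow, not_le.1 hlt, S.clr_le hs hi] at this
  have hNsub : ∀ i, N.testBit i = true → A'.testBit i = true := fun i hi => by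
    have := congrArg (fun x => x.testBit i) hNA
    simpa [hi] using this
  have mem_members : ∀ {i}, i < D.nroots → A'.testBit i = true → i ∈ members D.nroots A' := fun hi h => by
    refine List.mem_filter.2 ⟨List.mem_range'_1.2 ⟨hApos _ h, ?_⟩, h⟩
    omega
  have hNN : ∀ {q}, sumsIn S.T q A' N = true → sumsIn S.T q N N = true := fun h => by
    refine List.all_eq_true.2 fun e he => ?_
    have := List.all_eq_true.1 h e he
    cases hN : N.testBit e.1
    · rfl
    · simpa [hNsub _ hN] using this
  have hneg : ∀ {q}, D.nroots / 2 ≤ q → q < D.nroots → N.testBit (D.nroots - 1 - q) = false := fun h1 h2 => by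
    by_contra hne
    have := hApos _ (hNsub _ (eq_true_of_ne_false hne))
    have := S.C.hC.nroots_eq
    omega
  have hnorm : ∀ {q}, D.nroots / 2 ≤ q → q < D.nroots → sumsIn S.T q A' N = true →
      normB D.nroots S.T q N = true := fun h1 h2 h3 => by
    simp [normB, h2, hneg h1 h2, hNN h3]
  have hsn : s < D.nroots := by
    simp only [normB, Bool.and_eq_true, decide_eq_true_eq] at hns; exact hns.1.1
  have hPn : ∀ p ∈ P, p < D.nroots := fun p hp => by
    have := (hP p hp).1.1
    simp only [normB, Bool.and_eq_true, decide_eq_true_eq] at this; exact this.1.1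
  set H := Subgroup.normalizer (xa D F N : Set (GL D.Idx F))
  have hBm : rt D s a ∈ H := S.rt_mem_normalizer (hnorm hs2 hsn hsN) a
  have hAm : ∀ x ∈ xa D F A', x ∈ H := fun x hx => (Subgroup.closure_le H).2
    (by rintro _ ⟨i, t, hi, hA, rfl⟩
        exact S.rt_mem_normalizer (hnorm (hApos i hA) hi (hmem i (mem_members hi hA))) t) hx
  let B : ↥H := ⟨rt D s a, hBm⟩
  let U : ↥H := ⟨u', hAm u' hu'⟩
  let X : ℕ → ↥H := fun p =>
    if h : normB D.nroots S.T p N = true then ⟨rt D p 1, S.rt_mem_normalizer h 1⟩ else 1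
  have hX : ∀ p ∈ P, (X p : GL D.Idx F) = rt D p 1 := fun p hp => by
    simp [X, hnorm (hPN p hp).1.1 (hPn p hp) (hPN p hp).1.2]
  let W : ↥H := (P.map X).prod
  have hW : (W : GL D.Idx F) = wp D F P := by
    simp only [W, Subgroup.val_list_prod, List.map_map, wp]
    exact congrArg List.prod (List.map_congr_left fun p hp => hX p hp)
  let π := QuotientGroup.mk' ((xa D F N).subgroupOf H)
  have hπ : ∀ x y : ↥H, (x : GL D.Idx F)⁻¹ * y ∈ xa D F N → π x = π y := fun x y h =>
    QuotientGroup.eq.2 (by rw [Subgroup.mem_subgroupOf]; simpa using h)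
  -- a root element commutes modulo `N` with the subgroup of `A'`
  have hz : ∀ {q : ℕ} {t : F} (z : ↥H), (z : GL D.Idx F) = rt D q t → D.nroots / 2 ≤ q → q < D.nroots →
      sumsIn S.T q A' N = true → ∀ v : ↥H, (v : GL D.Idx F) ∈ xa D F A' → Commute (π z) (π v) := by
    intro q t z hz hq1 hq2 hq3
    suffices ∀ x (hx : x ∈ xa D F A'), Commute (π z) (π ⟨x, hAm x hx⟩) from fun v hv => this _ hv
    intro x hx
    induction hx using Subgroup.closure_induction with
    | mem x hx =>
      obtain ⟨i, c, hi, hA, rfl⟩ := hx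
      show π z * π _ = π _ * π z
      rw [← map_mul, ← map_mul]
      refine hπ _ _ ?_
      simp only [Subgroup.coe_mul, hz]
      rcases hc : S.T.add q i with _ | k
      · rw [S.comm_zero hq2 hi (by rw [S.neg_eq hq2]; have := hApos i hA; have := S.C.hC.nroots_eq; omega) hc,
          inv_mul_cancel]
        exact one_mem _
      · rw [S.comm_one hq2 hi hc, ← mul_assoc, inv_mul_cancel, one_mul]
        exact rt_mem_xa (S.add_lt hq2 hc) (S.sumsIn_spec hq2 hq3 hA hc) _
    | one => exact (map_one π).symm ▸ Commute.one_right _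
    | mul x y hx hy h1 h2 =>
      have : (⟨x * y, hAm _ (mul_mem hx hy)⟩ : ↥H) = ⟨x, hAm x hx⟩ * ⟨y, hAm y hy⟩ := rfl
      rw [this, map_mul]; exact h1.mul_right h2
    | inv x hx h1 =>
      have : (⟨x⁻¹, hAm _ (inv_mem hx)⟩ : ↥H) = (⟨x, hAm x hx⟩ : ↥H)⁻¹ := rfl
      rw [this, map_inv]; exact h1.inv_right
  have hv2 : ∀ x (hx : x ∈ xa D F A'), π ⟨x, hAm x hx⟩ * π ⟨x, hAm x hx⟩ = 1 := by
    intro x hx
    induction hx using Subgroup.closure_induction with
    | mem x hx =>
      obtain ⟨i, c, hi, hA, rfl⟩ := hx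
      rw [← map_mul]
      exact (congrArg π (Subtype.ext (S.rt_self i c))).trans (map_one π)
    | one => rw [show (⟨1, hAm 1 (one_mem _)⟩ : ↥H) = 1 from rfl, map_one, one_mul]
    | mul x y hx hy h1 h2 =>
      have : (⟨x * y, hAm _ (mul_mem hx hy)⟩ : ↥H) = ⟨x, hAm x hx⟩ * ⟨y, hAm y hy⟩ := rfl
      have hc : Commute (π ⟨y, hAm y hy⟩) (π ⟨x, hAm x hx⟩) := by
        clear h1 h2 this
        induction hy using Subgroup.closure_induction with
        | mem y hy =>
          obtain ⟨i, c, hi, hA, rfl⟩ := hy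
          exact hz (t := c) _ rfl (hApos i hA) hi (hmem i (mem_members hi hA)) _ hx
        | one => exact (map_one π).symm ▸ Commute.one_left _
        | mul y z hy' hz' h3 h4 =>
          have : (⟨y * z, hAm _ (mul_mem hy' hz')⟩ : ↥H) = ⟨y, hAm y hy'⟩ * ⟨z, hAm z hz'⟩ := rfl
          rw [this, map_mul]; exact h3.mul_left h4
        | inv y hy' h3 =>
          have : (⟨y⁻¹, hAm _ (inv_mem hy')⟩ : ↥H) = (⟨y, hAm y hy'⟩ : ↥H)⁻¹ := rfl
          rw [this, map_inv]; exact h3.inv_left
      rw [this, map_mul, hc.mul_mul_mul_comm, h1, h2, one_mul]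
    | inv x hx h1 =>
      have : (⟨x⁻¹, hAm _ (inv_mem hx)⟩ : ↥H) = (⟨x, hAm x hx⟩ : ↥H)⁻¹ := rfl
      rw [this, map_inv, ← mul_inv_rev, h1, inv_one]
  have hWU : Commute (π W) (π U) := by
    simp only [W, map_list_prod, List.map_map]
    refine Commute.list_prod_left _ _ fun x hx => ?_
    obtain ⟨p, hp, rfl⟩ := List.mem_map.1 hx
    exact hz (X p) (hX p hp) (hPN p hp).1.1 (hPn p hp) (hPN p hp).1.2 U hu'
  have hBU : Commute (π B) (π U) := hz B rfl hs2 hsn hsN U hu'
  have hwA : D.nroots / 2 ≤ w := hApos w hAw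
  have hW2 : π W * π W = 1 := by
    rw [← map_mul, show W * W = 1 from Subtype.ext ?_, map_one]
    rw [Subgroup.coe_mul, hW, ← wp_append, S.wp_eq_of_collect hsq, wp_nil]; rfl
  have hB2 : π B * π B = 1 := by
    rw [← map_mul, show B * B = 1 from Subtype.ext (S.rt_self s a), map_one]
  by_cases hw : w < D.nroots
  swap
  · exfalso
    obtain ⟨p, hp, hpw⟩ := List.countP_pos_iff.1
      (by omega : 0 < P.countP fun p => S.T.add p s == w + 1)
    exact hw (S.add_lt (hPn p hp) (by simpa using hpw))
  let E : ↥H := ⟨rt D w a, hAm _ (rt_mem_xa hw hAw a)⟩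
  have hE2 : π E * π E = 1 := hv2 _ (rt_mem_xa hw hAw a)
  have hBW : π B * π W = π W * π B * π E := by
    have hp1 : ∀ p ∈ P, π B * π (X p) * (π B)⁻¹ = π (X p) * if S.T.add p s == w + 1 then π E else 1 := by
      intro p hp
      obtain ⟨⟨-, hne⟩, -⟩ := hP p hp
      have hne' : s ≠ D.neg p := by rw [S.neg_eq (hPn p hp)]; exact hne
      rw [mul_inv_eq_iff_eq_mul]
      by_cases hm : S.T.add p s = w + 1
      · rw [if_pos (by simpa using hm)]
        have e1 : π B * π (X p) = π (X p) * π B * π E := by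
          rw [← map_mul, ← map_mul, ← map_mul]
          refine congrArg π (Subtype.ext ?_)
          simp only [Subgroup.coe_mul, hX p hp, B, E]
          rw [S.comm_one (hPn p hp) hsn hm, one_mul]
        rw [e1, mul_assoc, mul_assoc, (hz B rfl hs2 hsn hsN E (rt_mem_xa hw hAw a)).eq]
      · rw [if_neg (by simpa using hm), mul_one, ← map_mul, ← map_mul]
        refine hπ _ _ ?_
        simp only [Subgroup.coe_mul, hX p hp, B]
        rcases hc : S.T.add p s with _ | c
        · rw [S.comm_zero (hPn p hp) hsn hne' hc, inv_mul_cancel]; exact one_mem _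
        · rw [S.comm_one (hPn p hp) hsn hc, mul_inv_rev, mul_assoc, inv_mul_cancel, mul_one]
          exact inv_mem (rt_mem_xa (S.add_lt (hPn p hp) hc) (S.okSum_spec ((hPN p hp).2.resolve_left hm) hc) _)
    have hmid : π B * π W * (π B)⁻¹ = π W * π E := by
      calc π B * π W * (π B)⁻¹ = MulAut.conj (π B) (π W) := rfl
        _ = (P.map fun p => π (X p) * if S.T.add p s == w + 1 then π E else 1).prod := by
          simp only [W, map_list_prod, List.map_map]
          exact congrArg List.prod (List.map_congr_left fun p hp => hp1 p hp)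
        _ = π W * π E := by
          rw [prod_collect (fun p => π (X p)) (π E) (fun p => S.T.add p s == w + 1) P
            (fun p hp => hz (X p) (hX p hp) (hPN p hp).1.1 (hPn p hp) (hPN p hp).1.2 E
              (rt_mem_xa hw hAw a)), pow_parity hE2 hodd]
          simp only [W, map_list_prod, List.map_map]; rfl
    rw [mul_inv_eq_iff_eq_mul.1 hmid, mul_assoc, mul_assoc,
      (hz B rfl hs2 hsn hsN E (rt_mem_xa hw hAw a)).eq]
  have hE1 : π E = 1 := by
    have h : π W * π B * π U * (π W * π B * π U) = 1 := by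
      rw [← map_mul, ← map_mul, ← map_mul, show W * B * U * (W * B * U) = 1 from Subtype.ext ?_, map_one]
      simp only [Subgroup.coe_mul, hW, B, U]
      simpa [mul_assoc] using h2
    have e1 : π W * π B * π U * (π W * π B * π U) =
        (π W * π B * (π W * π B)) * (π U * π U) := by
      have hc : Commute (π W * π B) (π U) := hWU.mul_left hBU
      exact hc.symm.mul_mul_mul_comm _ _
    have hBE : Commute (π B) (π E) := hz B rfl hs2 hsn hsN E (rt_mem_xa hw hAw a)
    rw [e1, show π U * π U = 1 from hv2 u' hu', mul_one] at h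
    calc π E = (π W * π W) * ((π B * π B) * π E) := by rw [hW2, hB2, one_mul, one_mul]
      _ = π W * (π W * π B * π E * π B) := by
        simp only [mul_assoc]; rw [hBE.eq]
      _ = π W * π B * (π W * π B) := by rw [← hBW]; simp only [mul_assoc]
      _ = 1 := h
  have ha : a = 0 := by
    refine S.not_mem_xa (fun i hi => hApos i (hNsub i hi))
      (fun i hi h => hNN (hmem i (mem_members hi (hNsub i h)))) hwA hw hNw ?_
    have := (QuotientGroup.eq_one_iff _).1 hE1
    rwa [Subgroup.mem_subgroupOf] at this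
  rw [ha, S.C.hC.rt_zero, one_mul] at h2 ⊢
  exact hst u' hu' h2

theorem nElt_self_inv {r : ℕ} (c : F) : (nElt D r c)⁻¹ = nElt D r c := by
  rw [H52.Checked.nElt_eq, CharTwo.neg_eq, mul_inv_rev, mul_inv_rev, S.rt_inv', S.rt_inv', mul_assoc]

theorem branch_step {reps : List (List ℕ)} {P : List ℕ} {A s : ℕ} [Fintype F]
    (hk : branchB D.nroots S.T P A s = true) (h0 : St D F reps P (clr A s))
    (h1 : St D F reps (collect D.nroots S.T 400 (P ++ [s])) (clr A s)) : St D F reps P A := by
  simp only [branchB, splitB, Bool.and_eq_true, decide_eq_true_eq, List.all_eq_true, beq_iff_eq] at hk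
  obtain ⟨⟨⟨hs, hns⟩, hP⟩, horth⟩ := hk
  intro u hu h2
  obtain ⟨a, u', hu', rfl⟩ := S.xa_split hs hns hu
  by_cases ha : a = 0
  · rw [ha, S.C.hC.rt_zero, one_mul] at h2 ⊢
    exact h0 u' hu' h2
  have hsn : s < D.nroots := by
    simp only [normB, Bool.and_eq_true, decide_eq_true_eq] at hns; exact hns.1.1
  obtain ⟨c, hc⟩ := FiniteField.isSquare_of_char_two (F := F) (ringChar.eq F 2) a⁻¹
  have hc0 : c ≠ 0 := by rintro rfl; exact ha (inv_eq_zero.1 (by simpa using hc))
  set h : GL D.Idx F := nElt D s c * nElt D s 1 with hh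
  have hG : h ∈ D.group F := mul_mem (S.nElt_mem c) (S.nElt_mem 1)
  have hx : h * rt D s a * h⁻¹ = rt D s 1 := by
    have e1 : nElt D s (1 : F) * rt D s a * (nElt D s (1 : F))⁻¹ = rt D (D.nroots - 1 - s) a := by
      rw [S.C.hC.nElt_conj_rt_self hsn one_ne_zero, S.neg_eq hsn, one_pow, div_one, CharTwo.neg_eq]
    have e2 : nElt D s c * rt D s 1 * (nElt D s c)⁻¹ = rt D (D.nroots - 1 - s) a := by
      rw [S.C.hC.nElt_conj_rt_self hsn hc0, S.neg_eq hsn, CharTwo.neg_eq, pow_two, one_div, ← hc, inv_inv]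
    rw [hh, mul_inv_rev, show nElt D s c * nElt D s 1 * rt D s a * ((nElt D s 1)⁻¹ * (nElt D s c)⁻¹) =
      nElt D s c * (nElt D s 1 * rt D s a * (nElt D s 1)⁻¹) * (nElt D s c)⁻¹ by group, e1, ← e2,
      S.nElt_self_inv]
    calc nElt D s c * (nElt D s c * rt D s 1 * nElt D s c) * nElt D s c
        = nElt D s c * (nElt D s c)⁻¹ * rt D s 1 * ((nElt D s c)⁻¹ * nElt D s c) := by
          rw [S.nElt_self_inv]; group
      _ = rt D s 1 := by group
  have hcomm : ∀ p ∈ P, ∀ v : F, Commute (nElt D s v) (rt D p 1) := by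
    intro p hp v
    obtain ⟨⟨⟨h1, h2⟩, h3⟩, h4⟩ := horth p hp
    have hpn : p < D.nroots := by
      have := (hP p hp).1.1
      simp only [normB, Bool.and_eq_true, decide_eq_true_eq] at this; exact this.1.1
    have c1 : ∀ y : F, Commute (rt D s y) (rt D p 1) := fun y =>
      (S.comm_zero hsn hpn (by rw [S.neg_eq hsn]; exact h3) h1 y 1).symm
    have c2 : ∀ y : F, Commute (rt D (D.nroots - 1 - s) y) (rt D p 1) := fun y =>
      (S.comm_zero (S.neg_lt' hsn) hpn (by rw [S.neg_neg' hsn]; exact h4) h2 y 1).symm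
    rw [H52.Checked.nElt_eq, S.neg_eq hsn]
    exact ((c1 _).mul_left (c2 _)).mul_left (c1 _)
  have hw : Commute h (wp D F P) := Commute.list_prod_right _ _ fun x hx => by
    obtain ⟨p, hp, rfl⟩ := List.mem_map.1 hx
    exact (hcomm p hp c).mul_left (hcomm p hp 1)
  have htor : h * u' * h⁻¹ ∈ xa D F (clr A s) := by
    have hd : h = torus D fun i => (Units.mk0 c hc0) ^ crt D s i.val := by
      rw [← S.C.hC.hElt_eq_torus hsn, H52.Checked.hElt_eq, CharTwo.neg_eq]; rfl
    have : (xa D F (clr A s)).map (MulAut.conj h).toMonoidHom ≤ xa D F (clr A s) := by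
      rw [xa, MonoidHom.map_closure, Subgroup.closure_le]
      rintro _ ⟨_, ⟨i, t, hi, hA, rfl⟩, rfl⟩
      show h * rt D i t * h⁻¹ ∈ xa D F (clr A s)
      rw [hd, S.C.hC.torus_conj_rt _ hi]
      exact rt_mem_xa hi hA _
    exact this ⟨u', hu', rfl⟩
  have e : h * (wp D F P * (rt D s a * u')) * h⁻¹ =
      wp D F (collect D.nroots S.T 400 (P ++ [s])) * (h * u' * h⁻¹) := by
    rw [S.wp_collect, wp_append, show wp D F [s] = rt D s 1 from List.prod_singleton, ← hx, ← mul_assoc h,
      hw.eq]
    group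
  refine Good.of_conj hG rfl ?_
  rw [e]
  exact h1 _ htor (sq_conj' e h2)

theorem conj_step {reps : List (List ℕ)} {P : List ℕ} {A r : ℕ} (hk : normB D.nroots S.T r A = true)
    (hst : St D F reps (collect D.nroots S.T 400 (r :: (P ++ [r]))) A) : St D F reps P A := by
  intro u hu h2
  have e : rt D r 1 * (wp D F P * u) * (rt D r 1)⁻¹ =
      wp D F (collect D.nroots S.T 400 (r :: (P ++ [r]))) * (rt D r 1 * u * (rt D r 1)⁻¹) := by
    rw [S.wp_collect, wp_cons, wp_append, show wp D F [r] = rt D r 1 from List.prod_singleton]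
    calc rt D r 1 * (wp D F P * u) * (rt D r 1)⁻¹
        = rt D r 1 * wp D F P * (rt D r 1)⁻¹ * (rt D r 1 * u * (rt D r 1)⁻¹) := by group
      _ = _ := by rw [S.rt_inv', mul_assoc (rt D r 1) (wp D F P)]
  refine Good.of_conj (S.C.rt_mem_group r 1) rfl ?_
  rw [e]
  exact hst _ (S.conj_xa hk 1 hu) (sq_conj' e h2)

theorem mapM_refl {r : ℕ} (hr : r < D.nroots) : ∀ {P Q : List ℕ}, (∀ p ∈ P, p < D.nroots) →
    P.mapM (refl D.nroots S.T r) = some Q →
      nElt D r (1 : F) * wp D F P * (nElt D r (1 : F))⁻¹ = wp D F Q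
  | [], Q, _, h => by
    simp at h; subst h; simp [wp]
  | p :: P, Q, hn, h => by
    simp only [List.mapM_cons, Option.pure_def, Option.bind_eq_bind, Option.bind_eq_some_iff,
      Option.some.injEq] at h
    obtain ⟨k, hk, Q', hQ, rfl⟩ := h
    rw [wp_cons, wp_cons, ← mapM_refl hr (fun q hq => hn q (List.mem_cons_of_mem _ hq)) hQ,
      ← (S.refl_spec hr (hn p List.mem_cons_self) hk (1 : F)).2]
    group

theorem refl_step {reps : List (List ℕ)} {P Q : List ℕ} {A r : ℕ} (hk : reflB D.nroots S.T r A = true)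
    (hP : ∀ p ∈ P, p < D.nroots) (hQ : P.mapM (refl D.nroots S.T r) = some Q)
    (hst : St D F reps (collect D.nroots S.T 400 Q) A) : St D F reps P A := by
  intro u hu h2
  have hr : r < D.nroots := by
    simp only [reflB, Bool.and_eq_true, decide_eq_true_eq] at hk; exact hk.1.1.1
  have e : nElt D r (1 : F) * (wp D F P * u) * (nElt D r (1 : F))⁻¹ =
      wp D F (collect D.nroots S.T 400 Q) * (nElt D r (1 : F) * u * (nElt D r (1 : F))⁻¹) := by
    rw [S.wp_collect, ← S.mapM_refl hr hP hQ]; group
  refine Good.of_conj (h := nElt D r (1 : F)) (S.nElt_mem 1) rfl ?_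
  rw [e]
  exact hst _ (S.refl_xa hk hu) (sq_conj' e h2)

/-- Soundness of the graph. -/
theorem nodes_sound [Fintype F] {reps : List (List ℕ)} {node : ℕ → Node} {len : ℕ}
    (h : ∀ i < len, nodeOK D.nroots S.T reps node i = true) :
    ∀ i < len, St D F reps (node i).P (node i).A := by
  intro i
  induction i using Nat.strong_induction_on with
  | _ i ih =>
    intro hi
    have hn := h i hi
    have child : ∀ {c : ℕ} {P : List ℕ} {A : ℕ}, childB node i c P A = true → St D F reps P A := by
      intro c P A hc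
      simp only [childB, Bool.and_eq_true, decide_eq_true_eq, beq_iff_eq] at hc
      obtain ⟨⟨h1, h2⟩, h3⟩ := hc
      rw [← h2, ← h3]
      exact ih c h1 (h1.trans hi)
    rcases hk : (node i).kind with _ | ⟨s, r, c⟩ | ⟨s, w, N, c⟩ | ⟨s, c₀, c₁⟩ | ⟨r, c⟩ | ⟨r, c⟩
    all_goals simp only [nodeOK, hk] at hn
    · simp only [Bool.and_eq_true, beq_iff_eq, Bool.or_eq_true, List.contains_iff_mem] at hn
      intro u hu h2
      rw [hn.1, S.xa_zero, Subgroup.mem_bot] at hu
      subst hu
      rw [mul_one]
      rcases hn.2 with hP | hP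
      · exact Or.inl (by rw [hP, wp_nil])
      · exact Or.inr ⟨_, hP, 1, one_mem _, by simp⟩
    · rw [Bool.and_eq_true] at hn
      exact S.kill_step hn.1 (child hn.2)
    · rw [Bool.and_eq_true] at hn
      exact S.force_step hn.1 (child hn.2)
    · rw [Bool.and_eq_true, Bool.and_eq_true] at hn
      exact S.branch_step hn.1.1 (child hn.1.2) (child hn.2)
    · split at hn
      · simp at hn
      · rename_i Q hQ
        simp only [Bool.and_eq_true, decide_eq_true_eq, beq_iff_eq] at hn
        obtain ⟨⟨⟨h1, h2⟩, h3⟩, h4, h5⟩ := hn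
        have hst := ih c h2 (h2.trans hi)
        rw [h5, h3] at hst
        exact S.refl_step h1 h4 hQ hst
    · rw [Bool.and_eq_true] at hn
      exact S.conj_step hn.1 (child hn.2)

end Sys

end H56.Inv
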