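import Cfsg.Agent.H56.Invol.Final

/-!
Separating the representatives by ranks.
-/

set_option autoImplicit false
set_option linter.unusedSectionVars false

namespace H56.Inv

open Cfsg.Lie H52

variable {D : ChevalleyDatum} {F : Type*} [Field F] [Fintype F] [CharP F 2]

/-- Products with rank certificates of different values are not conjugate. -/
theorem not_conj_of_certs {T : Tables} (hC : Checked D T) {cs : List H21.Invol.RankCert} {m : ℕ}
    (hm : H21.Invol.projB D m = H53.BitMat.bone (D.rank + D.nroots))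
    (hcs : ∀ c ∈ cs, c.ok D = true ∧ c.m = m) (hcov : ∀ c ∈ cs, ∀ c' ∈ cs, c.L = c'.L ∨ c.k ≠ c'.k)
    {L L' : List ℕ} (hL : ∃ c ∈ cs, c.L = L) (hL' : ∃ c ∈ cs, c.L = L') (hne : L ≠ L')
    {g : GL D.Idx F} (hg : g ∈ D.group F) : g * wp D F L * g⁻¹ ≠ wp D F L' := by
  obtain ⟨c, hc, rfl⟩ := hL
  obtain ⟨c', hc', rfl⟩ := hL'
  intro he
  obtain ⟨h1, hm1⟩ := hcs c hc
  obtain ⟨h2, hm2⟩ := hcs c' hc'
  have hk := (hcov c hc c' hc').resolve_left hne
  simp only [H21.Invol.RankCert.ok, Bool.and_eq_true, decide_eq_true_eq] at h1 h2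
  rw [hm1] at h1
  rw [hm2] at h2
  have hJ : ∀ g ∈ D.group F, H53.BitMat.evalB D F (H21.Invol.projB D m) *
      ((g : Matrix D.Idx D.Idx F) * H53.BitMat.evalB D F (H21.Invol.projB D m)) =
        (g : Matrix D.Idx D.Idx F) * H53.BitMat.evalB D F (H21.Invol.projB D m) := by
    intro g _
    rw [hm, H53.BitMat.evalB_bone D, Matrix.mul_one, Matrix.one_mul]
  simp only [wp_eq_prodRt] at he
  rcases lt_or_gt_of_ne hk with h | h
  · exact H21.Invol.not_conj m hJ h h2.1.1 h1.1.2 h2.2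
      (H21.Invol.coe_prodRt hC c.L) (H21.Invol.coe_prodRt hC c'.L) hg he
  · refine H21.Invol.not_conj m hJ h h1.1.1 h2.1.2 h1.2
      (H21.Invol.coe_prodRt hC c'.L) (H21.Invol.coe_prodRt hC c.L) (inv_mem hg) ?_
    rw [← he]
    group

/-- A representative with square one and positive rank has order two. -/
theorem orderOf_wp {T : Tables} (hC : Checked D T) {cs : List H21.Invol.RankCert} {m : ℕ}
    (hm : H21.Invol.projB D m = H53.BitMat.bone (D.rank + D.nroots))
    (hcs : ∀ c ∈ cs, c.ok D = true ∧ c.m = m) (hcov : ∀ c ∈ cs, ∀ c' ∈ cs, c.L = c'.L ∨ c.k ≠ c'.k)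
    (h0 : ∃ c ∈ cs, c.L = []) {L : List ℕ} (hL : ∃ c ∈ cs, c.L = L) (hne : L ≠ [])
    (hsq : wp D F L * wp D F L = 1) : orderOf (wp D F L) = 2 := by
  haveI : Fact (Nat.Prime 2) := ⟨Nat.prime_two⟩
  refine orderOf_eq_prime (by rw [pow_two]; exact hsq) fun e => ?_
  exact not_conj_of_certs (F := F) hC hm hcs hcov hL h0 hne (one_mem _) (by rw [e, wp_nil]; group)

/-- A representative as a product of matrices. -/
theorem coe_wp {T : Tables} (hC : Checked D T) (L : List ℕ) :
    ((wp D F L : GL D.Idx F) : Matrix D.Idx D.Idx F) = D.wordMat F (L.map fun r => (r, 1)) := by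
  rw [wp_eq_prodRt]; exact H21.Invol.coe_prodRt hC L

end H56.Inv
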