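import Cfsg.Agent.H56.Invol.E7Data

/-!
The checks of the certificate graph for `E7`.
-/

set_option autoImplicit false
set_option maxRecDepth 20000
set_option maxHeartbeats 1000000

namespace H56.Inv.E7

open Cfsg.Lie

theorem tab_ok : tabOK chevE7 tab = true := by decide +kernel

theorem root_ok : 868 < 869 ∧ (node 868).P = [] ∧ (node 868).A = 85070591730234615856620279821087277056 := by decide +kernel

theorem node_ok0 : ((List.range' 0 256).all fun i => nodeOK 126 tab reps node i) = true := by
  decide +kernel

theorem node_ok1 : ((List.range' 256 256).all fun i => nodeOK 126 tab reps node i) = true := by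
  decide +kernel

theorem node_ok2 : ((List.range' 512 256).all fun i => nodeOK 126 tab reps node i) = true := by
  decide +kernel

theorem node_ok3 : ((List.range' 768 101).all fun i => nodeOK 126 tab reps node i) = true := by
  decide +kernel

theorem node_ok : ∀ i < 869, nodeOK 126 tab reps node i = true := by
  intro i hi
  by_cases h0 : i < 256
  · exact List.all_eq_true.1 node_ok0 i (List.mem_range'_1.2 (by omega))
  by_cases h1 : i < 512
  · exact List.all_eq_true.1 node_ok1 i (List.mem_range'_1.2 (by omega))
  by_cases h2 : i < 768
  · exact List.all_eq_true.1 node_ok2 i (List.mem_range'_1.2 (by omega))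
  exact List.all_eq_true.1 node_ok3 i (List.mem_range'_1.2 (by omega))

end H56.Inv.E7
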