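import Cfsg.Agent.H56.Invol.E8Data

/-!
The checks of the certificate graph for `E8`.
-/

set_option autoImplicit false
set_option maxRecDepth 20000
set_option maxHeartbeats 1000000

namespace H56.Inv.E8

open Cfsg.Lie

theorem tab_ok : tabOK chevE8 tab = true := by decide +kernel

theorem root_ok : 4066 < 4067 ∧ (node 4066).P = [] ∧ (node 4066).A = 1766847064778384329583297500742918514498255901090703085217799141012275200 := by decide +kernel

theorem node_ok0 : ((List.range' 0 256).all fun i => nodeOK 240 tab reps node i) = true := by
  decide +kernel

theorem node_ok1 : ((List.range' 256 256).all fun i => nodeOK 240 tab reps node i) = true := by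
  decide +kernel

theorem node_ok2 : ((List.range' 512 256).all fun i => nodeOK 240 tab reps node i) = true := by
  decide +kernel

theorem node_ok3 : ((List.range' 768 256).all fun i => nodeOK 240 tab reps node i) = true := by
  decide +kernel

theorem node_ok4 : ((List.range' 1024 256).all fun i => nodeOK 240 tab reps node i) = true := by
  decide +kernel

theorem node_ok5 : ((List.range' 1280 256).all fun i => nodeOK 240 tab reps node i) = true := by
  decide +kernel

theorem node_ok6 : ((List.range' 1536 256).all fun i => nodeOK 240 tab reps node i) = true := by
  decide +kernel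

theorem node_ok7 : ((List.range' 1792 256).all fun i => nodeOK 240 tab reps node i) = true := by
  decide +kernel

theorem node_ok8 : ((List.range' 2048 256).all fun i => nodeOK 240 tab reps node i) = true := by
  decide +kernel

theorem node_ok9 : ((List.range' 2304 256).all fun i => nodeOK 240 tab reps node i) = true := by
  decide +kernel

theorem node_ok10 : ((List.range' 2560 256).all fun i => nodeOK 240 tab reps node i) = true := by
  decide +kernel

theorem node_ok11 : ((List.range' 2816 256).all fun i => nodeOK 240 tab reps node i) = true := by
  decide +kernel

theorem node_ok12 : ((List.range' 3072 256).all fun i => nodeOK 240 tab reps node i) = true := by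
  decide +kernel

theorem node_ok13 : ((List.range' 3328 256).all fun i => nodeOK 240 tab reps node i) = true := by
  decide +kernel

theorem node_ok14 : ((List.range' 3584 256).all fun i => nodeOK 240 tab reps node i) = true := by
  decide +kernel

theorem node_ok15 : ((List.range' 3840 227).all fun i => nodeOK 240 tab reps node i) = true := by
  decide +kernel

theorem node_ok : ∀ i < 4067, nodeOK 240 tab reps node i = true := by
  intro i hi
  by_cases h0 : i < 256
  · exact List.all_eq_true.1 node_ok0 i (List.mem_range'_1.2 (by omega))
  by_cases h1 : i < 512
  · exact List.all_eq_true.1 node_ok1 i (List.mem_range'_1.2 (by omega))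
  by_cases h2 : i < 768
  · exact List.all_eq_true.1 node_ok2 i (List.mem_range'_1.2 (by omega))
  by_cases h3 : i < 1024
  · exact List.all_eq_true.1 node_ok3 i (List.mem_range'_1.2 (by omega))
  by_cases h4 : i < 1280
  · exact List.all_eq_true.1 node_ok4 i (List.mem_range'_1.2 (by omega))
  by_cases h5 : i < 1536
  · exact List.all_eq_true.1 node_ok5 i (List.mem_range'_1.2 (by omega))
  by_cases h6 : i < 1792
  · exact List.all_eq_true.1 node_ok6 i (List.mem_range'_1.2 (by omega))
  by_cases h7 : i < 2048
  · exact List.all_eq_true.1 node_ok7 i (List.mem_range'_1.2 (by omega))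
  by_cases h8 : i < 2304
  · exact List.all_eq_true.1 node_ok8 i (List.mem_range'_1.2 (by omega))
  by_cases h9 : i < 2560
  · exact List.all_eq_true.1 node_ok9 i (List.mem_range'_1.2 (by omega))
  by_cases h10 : i < 2816
  · exact List.all_eq_true.1 node_ok10 i (List.mem_range'_1.2 (by omega))
  by_cases h11 : i < 3072
  · exact List.all_eq_true.1 node_ok11 i (List.mem_range'_1.2 (by omega))
  by_cases h12 : i < 3328
  · exact List.all_eq_true.1 node_ok12 i (List.mem_range'_1.2 (by omega))
  by_cases h13 : i < 3584
  · exact List.all_eq_true.1 node_ok13 i (List.mem_range'_1.2 (by omega))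
  by_cases h14 : i < 3840
  · exact List.all_eq_true.1 node_ok14 i (List.mem_range'_1.2 (by omega))
  exact List.all_eq_true.1 node_ok15 i (List.mem_range'_1.2 (by omega))

end H56.Inv.E8
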