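import Cfsg.Agent.H56.Invol.Checker
import Cfsg.Agent.H54.ChevSylow
import Cfsg.Agent.H21.Invol.Final

/-!
From a certificate graph to the classes of involutions.
-/

set_option autoImplicit false
set_option linter.unusedSectionVars false

namespace H56.Inv

open Cfsg.Lie H52

variable {D : ChevalleyDatum} {F : Type*} [Field F]

theorem wp_eq_prodRt (L : List ℕ) : wp D F L = H21.Invol.prodRt D L fun _ => (1 : F) := by
  simp [wp, H21.Invol.prodRt, H52.wordRt, List.map_map, Function.comp_def]

/-- The full mask of positive roots. -/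
def fullMask (n : ℕ) : ℕ := (2 ^ (n - n / 2) - 1) <<< (n / 2)

theorem testBit_fullMask {n i : ℕ} (h : n / 2 ≤ i) (hi : i < n) : (fullMask n).testBit i = true := by
  rw [fullMask, Nat.testBit_shiftLeft, Nat.testBit_two_pow_sub_one]
  simp only [ge_iff_le, h, decide_true, Bool.true_and, decide_eq_true_eq]
  omega

namespace Sys

variable (S : Sys D)

include S

theorem wp_mem (L : List ℕ) : wp D F L ∈ D.group F :=
  list_prod_mem fun x hx => by
    obtain ⟨p, -, rfl⟩ := List.mem_map.1 hx
    exact S.C.rt_mem_group p 1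

variable [CharP F 2] [Fintype F]

/-- Every element of order two is conjugate to a representative. -/
theorem exists_rep {reps : List (List ℕ)} {node : ℕ → Node} {len root : ℕ}
    (h : ∀ i < len, nodeOK D.nroots S.T reps node i = true) (hr : root < len)
    (hP : (node root).P = []) (hA : (node root).A = fullMask D.nroots)
    {g : GL D.Idx F} (hg : g ∈ D.group F) (ho : orderOf g = 2) :
    ∃ L ∈ reps, ∃ k ∈ D.group F, k * g * k⁻¹ = wp D F L := by
  haveI : Fact (Nat.Prime 2) := ⟨Nat.prime_two⟩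
  obtain ⟨P, hPs⟩ := S.C.exists_sylow (F := F) 2
  set a : ↥(D.group F) := ⟨g, hg⟩
  have ha : orderOf a = 2 := (Subgroup.orderOf_mk g hg).trans ho
  have hX : IsPGroup 2 ↥(Subgroup.zpowers a) :=
    IsPGroup.of_card (n := 1) (by rw [Nat.card_zpowers, ha, pow_one])
  obtain ⟨Q, hQ⟩ := hX.exists_le_sylow
  obtain ⟨c, hc⟩ := MulAction.exists_smul_eq ↥(D.group F) Q P
  have h1 : c * a * c⁻¹ ∈ (P : Subgroup ↥(D.group F)) := by
    rw [← hc]; exact ⟨a, hQ (Subgroup.mem_zpowers a), rfl⟩
  rw [hPs, Subgroup.mem_subgroupOf, S.C.hC.posUnipotent_eq] at h1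
  have h2 : ((c * a * c⁻¹ : ↥(D.group F)) : GL D.Idx F) ∈ xa D F (fullMask D.nroots) := by
    refine (Subgroup.closure_le _).2 ?_ h1
    rintro _ ⟨r, t, h1, h2, rfl⟩
    exact rt_mem_xa h2 (testBit_fullMask h1 h2) t
  have hg2 : g * g = 1 := by rw [← pow_two, ← ho]; exact pow_orderOf_eq_one g
  have e : (c : GL D.Idx F) * g * (c : GL D.Idx F)⁻¹ = ((c * a * c⁻¹ : ↥(D.group F)) : GL D.Idx F) := rfl
  have hst := S.nodes_sound (F := F) h root hr
  rw [hP, hA] at hst
  have hgood := hst _ h2 (by rw [wp_nil, one_mul]; exact sq_conj' e hg2)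
  rw [wp_nil, one_mul] at hgood
  rcases Good.of_conj c.2 e hgood with h3 | h3
  · rw [h3, orderOf_one] at ho; omega
  · exact h3

end Sys

end H56.Inv
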