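import Cfsg.Agent.H56.Invol.Base
import Cfsg.Agent.H52.RankOne

/-!
Words of root elements, subgroups given by sets of roots as bit masks, and reflections.
-/

set_option autoImplicit false
set_option linter.unusedSectionVars false

namespace H56.Inv

open Cfsg.Lie H52

/-- The product of the root elements with parameter one of a list of roots. -/
noncomputable def wp (D : ChevalleyDatum) (F : Type*) [Field F] (P : List ℕ) : GL D.Idx F :=
  (P.map fun p => rt D p (1 : F)).prod

/-- The subgroup generated by the root subgroups of the roots in a mask. -/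
noncomputable def xa (D : ChevalleyDatum) (F : Type*) [Field F] (A : ℕ) : Subgroup (GL D.Idx F) :=
  Subgroup.closure {g | ∃ (i : ℕ) (t : F), i < D.nroots ∧ A.testBit i = true ∧ g = rt D i t}

/-- The sums of the root `r` with roots in `A` lie in `N`. -/
def sumsIn (T : Tab) (r A N : ℕ) : Bool := (T.lst r).all fun e => !A.testBit e.1 || N.testBit (e.2 - 1)

/-- The root subgroup of `r` normalises the subgroup of `A`. -/
def normB (n : ℕ) (T : Tab) (r A : ℕ) : Bool :=
  decide (r < n) && !A.testBit (n - 1 - r) && sumsIn T r A A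

/-- One step of collection. -/
def step (n : ℕ) (T : Tab) : List ℕ → List ℕ
  | [] => []
  | [a] => [a]
  | a :: b :: L =>
    if a < n ∧ b < n ∧ a ≠ n - 1 - b ∧ b ≤ a then
      if a = b then L
      else match T.add b a with
        | 0 => b :: a :: L
        | c + 1 => b :: a :: c :: L
    else a :: step n T (b :: L)

/-- Repeated collection. -/
def collect (n : ℕ) (T : Tab) : ℕ → List ℕ → List ℕ
  | 0, L => L
  | fuel + 1, L => let L' := step n T L; if L' == L then L else collect n T fuel L'

/-- The reflection in `r` applied to `i`, with the conditions making it a conjugation. -/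
def refl (n : ℕ) (T : Tab) (r i : ℕ) : Option ℕ :=
  if i = r then some (n - 1 - r) else if i = n - 1 - r then some r
  else if n ≤ i then none
  else match T.add r i, T.add (n - 1 - r) i with
    | 0, 0 => some i
    | a + 1, 0 =>
      if T.add (n - 1 - r) a = i + 1 ∧ T.add r a = 0 ∧ T.add i a = 0 ∧ a ≠ n - 1 - r ∧ a ≠ n - 1 - i then some a
      else none
    | 0, b + 1 =>
      if T.add r b = i + 1 ∧ T.add (n - 1 - r) b = 0 ∧ T.add i b = 0 ∧ b ≠ r ∧ b ≠ n - 1 - i then some b else none
    | _, _ => none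

/-- The reflection in `r` preserves `A`. -/
def reflB (n : ℕ) (T : Tab) (r A : ℕ) : Bool :=
  decide (r < n) && !A.testBit r && !A.testBit (n - 1 - r) && ((T.lst r ++ T.lst (n - 1 - r)).all fun e =>
    !A.testBit e.1 || match refl n T r e.1 with
      | none => false
      | some k => A.testBit k)

variable {D : ChevalleyDatum} {F : Type*} [Field F]

theorem rt_mem_xa {A i : ℕ} (hi : i < D.nroots) (hA : A.testBit i = true) (t : F) : rt D i t ∈ xa D F A :=
  Subgroup.subset_closure ⟨i, t, hi, hA, rfl⟩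

theorem wp_nil : wp D F [] = 1 := rfl

theorem wp_cons (a : ℕ) (L : List ℕ) : wp D F (a :: L) = rt D a 1 * wp D F L := rfl

theorem wp_append (L L' : List ℕ) : wp D F (L ++ L') = wp D F L * wp D F L' := by
  simp [wp]

namespace Sys

variable (S : Sys D)

include S

theorem neg_eq {r : ℕ} (hr : r < D.nroots) : D.neg r = D.nroots - 1 - r := S.C.hC.neg_eq hr

theorem neg_lt' {r : ℕ} (hr : r < D.nroots) : D.nroots - 1 - r < D.nroots := by omega

theorem neg_neg' {r : ℕ} (hr : r < D.nroots) : D.neg (D.nroots - 1 - r) = r := by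
  rw [S.neg_eq (S.neg_lt' hr)]; omega

theorem sumsIn_spec {r A N i k : ℕ} (hr : r < D.nroots) (h : sumsIn S.T r A N = true)
    (hi : A.testBit i = true) (hk : S.T.add r i = k + 1) : N.testBit k = true := by
  have := List.all_eq_true.1 h _ (S.add_mem_lst hr hk)
  simpa [hi] using this

variable [CharP F 2]

theorem wp_step (L : List ℕ) : wp D F (step D.nroots S.T L) = wp D F L := by
  induction L using step.induct D.nroots S.T with
  | case1 => rfl
  | case2 a => rfl
  | case3 a L h =>
    rw [step, if_pos h, if_pos rfl, wp_cons, wp_cons, ← mul_assoc, S.rt_self, one_mul]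
  | case4 a b L h hab h0 =>
    obtain ⟨ha, hb, hne, hle⟩ := h
    simp only [step, ha, hb, hab, hle, if_false, h0, ne_eq, hne, not_false_eq_true, true_and, and_self, if_true]
    rw [wp_cons, wp_cons, wp_cons, wp_cons, ← mul_assoc, ← mul_assoc]
    congr 1
    exact (S.comm_zero hb ha (by rw [S.neg_eq hb]; exact hne) h0 (1 : F) 1).symm
  | case5 a b L h hab c h0 =>
    obtain ⟨ha, hb, hne, hle⟩ := h
    simp only [step, ha, hb, hab, hle, if_false, h0, ne_eq, hne, not_false_eq_true, true_and, and_self, if_true]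
    simp only [wp_cons, ← mul_assoc]
    congr 1
    rw [S.comm_one hb ha h0 (1 : F) 1, mul_one]
  | case6 a b L h ih =>
    rw [step, if_neg h, wp_cons, ih, ← wp_cons]

theorem wp_collect (fuel : ℕ) (L : List ℕ) : wp D F (collect D.nroots S.T fuel L) = wp D F L := by
  induction fuel generalizing L with
  | zero => rfl
  | succ fuel ih =>
    simp only [collect]
    split_ifs
    · rfl
    · rw [ih, S.wp_step]

theorem wp_eq_of_collect {fuel : ℕ} {L P : List ℕ} (h : collect D.nroots S.T fuel L = P) :
    wp D F L = wp D F P := by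
  rw [← h, S.wp_collect]

/-- A root element maps the subgroup of a normalised mask into itself. -/
theorem conj_xa {r A : ℕ} (h : normB D.nroots S.T r A = true) (t : F) {g : GL D.Idx F}
    (hg : g ∈ xa D F A) : rt D r t * g * (rt D r t)⁻¹ ∈ xa D F A := by
  simp only [normB, Bool.and_eq_true, decide_eq_true_eq, Bool.not_eq_true'] at h
  obtain ⟨⟨hr, hneg⟩, hs⟩ := h
  have : (xa D F A).map (MulAut.conj (rt D r t)).toMonoidHom ≤ xa D F A := by
    rw [xa, MonoidHom.map_closure, Subgroup.closure_le]
    rintro _ ⟨_, ⟨i, u, hi, hA, rfl⟩, rfl⟩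
    show rt D r t * rt D i u * (rt D r t)⁻¹ ∈ xa D F A
    rcases hk : S.T.add r i with _ | k
    · have hne : i ≠ D.neg r := by
        rw [S.neg_eq hr]; rintro rfl; rw [hA] at hneg; exact Bool.noConfusion hneg
      rw [S.conj_zero hr hi hne hk]
      exact rt_mem_xa hi hA u
    · rw [S.conj_one hr hi hk]
      exact mul_mem (rt_mem_xa hi hA u) (rt_mem_xa (S.add_lt hr hk) (S.sumsIn_spec hr hs hA hk) _)
  exact this ⟨g, hg, rfl⟩

theorem rt_mem_normalizer {r A : ℕ} (h : normB D.nroots S.T r A = true) (t : F) :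
    rt D r t ∈ Subgroup.normalizer (xa D F A : Set (GL D.Idx F)) := by
  rw [Subgroup.mem_normalizer_iff]
  intro g
  refine ⟨fun hg => S.conj_xa h t hg, fun hg => ?_⟩
  have := S.conj_xa h t hg
  rw [S.rt_inv', show rt D r t * (rt D r t * g * rt D r t) * rt D r t =
    rt D r t * rt D r t * g * (rt D r t * rt D r t) by group, S.rt_self, one_mul, mul_one] at this
  exact this

theorem wp_mem_normalizer {P : List ℕ} {A : ℕ} (h : ∀ p ∈ P, normB D.nroots S.T p A = true) :
    wp D F P ∈ Subgroup.normalizer (xa D F A : Set (GL D.Idx F)) := by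
  refine list_prod_mem fun g hg => ?_
  obtain ⟨p, hp, rfl⟩ := List.mem_map.1 hg
  exact S.rt_mem_normalizer (h p hp) 1

theorem refl_spec {r i k : ℕ} (hr : r < D.nroots) (hi : i < D.nroots)
    (h : refl D.nroots S.T r i = some k) (t : F) :
    k < D.nroots ∧ nElt D r (1 : F) * rt D i t * (nElt D r (1 : F))⁻¹ = rt D k t := by
  have hr' := S.neg_lt' hr
  have en : nElt D r (1 : F) = rt D r 1 * rt D (D.nroots - 1 - r) 1 * rt D r 1 := by
    rw [H52.Checked.nElt_eq, S.neg_eq hr, inv_one, CharTwo.neg_eq]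
  have ni : (nElt D r (1 : F))⁻¹ = nElt D r (1 : F) := by
    rw [S.C.hC.nElt_inv hr, CharTwo.neg_eq]
  have self : ∀ u : F, nElt D r (1 : F) * rt D r u * (nElt D r (1 : F))⁻¹ = rt D (D.nroots - 1 - r) u :=
    fun u => by rw [S.C.hC.nElt_conj_rt_self hr one_ne_zero, S.neg_eq hr, one_pow, div_one, CharTwo.neg_eq]
  simp only [refl] at h
  split_ifs at h with h1 h2 h3
  · obtain rfl := Option.some.inj h; subst h1
    exact ⟨hr', self t⟩
  · obtain rfl := Option.some.inj h; subst h2
    refine ⟨hr, ?_⟩
    rw [← self t, ni]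
    have e : nElt D r (1 : F) * nElt D r (1 : F) = 1 := by
      nth_rewrite 2 [← ni]; exact mul_inv_cancel _
    rw [show nElt D r (1 : F) * (nElt D r (1 : F) * rt D r t * nElt D r (1 : F)) * nElt D r (1 : F) =
      (nElt D r (1 : F) * nElt D r (1 : F)) * rt D r t * (nElt D r (1 : F) * nElt D r (1 : F)) by group,
      e, one_mul, mul_one]
  have hne : i ≠ D.neg r := by rw [S.neg_eq hr]; exact h2
  have hne' : i ≠ D.neg (D.nroots - 1 - r) := by rw [S.neg_neg' hr]; exact h1
  have conj3 : ∀ g : GL D.Idx F, nElt D r (1 : F) * g * (nElt D r (1 : F))⁻¹ =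
      rt D r 1 * (rt D (D.nroots - 1 - r) 1 * (rt D r 1 * g * (rt D r 1)⁻¹) *
        (rt D (D.nroots - 1 - r) 1)⁻¹) * (rt D r 1)⁻¹ := fun g => by rw [en]; group
  have hconj : ∀ (x a b : GL D.Idx F), x * (a * b) * x⁻¹ = (x * a * x⁻¹) * (x * b * x⁻¹) :=
    fun x a b => by group
  split at h
  · rename_i ha hb
    obtain rfl := Option.some.inj h
    exact ⟨hi, by rw [conj3, S.conj_zero hr hi hne ha, S.conj_zero hr' hi hne' hb, S.conj_zero hr hi hne ha]⟩
  · rename_i a ha hb
    split_ifs at h with hc
    obtain rfl := Option.some.inj h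
    obtain ⟨hc1, hc2, hc3, hc4, hc5⟩ := hc
    have hal := S.add_lt hr ha
    refine ⟨hal, ?_⟩
    rw [conj3, S.conj_one hr hi ha, one_mul, hconj (rt D (D.nroots - 1 - r) 1), S.conj_zero hr' hi hne' hb, S.conj_one hr' hal hc1,
      one_mul, show rt D i t * (rt D a t * rt D i t) = rt D a t by
        rw [← mul_assoc, ← S.comm_zero hi hal (by rw [S.neg_eq hi]; exact hc5) hc3, mul_assoc, S.rt_self, mul_one],
      S.conj_zero hr hal (by rw [S.neg_eq hr]; exact hc4) hc2]
  · rename_i b ha hb
    split_ifs at h with hc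
    obtain rfl := Option.some.inj h
    obtain ⟨hc1, hc2, hc3, hc4, hc5⟩ := hc
    have hbl := S.add_lt hr' hb
    refine ⟨hbl, ?_⟩
    rw [conj3, S.conj_zero hr hi hne ha, S.conj_one hr' hi hb, one_mul, hconj (rt D r 1), S.conj_zero hr hi hne ha,
      S.conj_one hr hbl hc1, one_mul]
    rw [← mul_assoc, ← S.comm_zero hi hbl (by rw [S.neg_eq hi]; exact hc5) hc3, mul_assoc, S.rt_self, mul_one]
  · exact absurd h (by simp)

theorem refl_xa {r A : ℕ} (h : reflB D.nroots S.T r A = true) {g : GL D.Idx F} (hg : g ∈ xa D F A) :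
    nElt D r (1 : F) * g * (nElt D r (1 : F))⁻¹ ∈ xa D F A := by
  simp only [reflB, Bool.and_eq_true, decide_eq_true_eq, Bool.not_eq_true', List.all_eq_true] at h
  obtain ⟨⟨⟨hr, hAr⟩, hAn⟩, hs⟩ := h
  have : (xa D F A).map (MulAut.conj (nElt D r (1 : F))).toMonoidHom ≤ xa D F A := by
    rw [xa, MonoidHom.map_closure, Subgroup.closure_le]
    rintro _ ⟨_, ⟨i, u, hi, hA, rfl⟩, rfl⟩
    show nElt D r (1 : F) * rt D i u * (nElt D r (1 : F))⁻¹ ∈ xa D F A
    have key : ∀ e ∈ S.T.lst r ++ S.T.lst (D.nroots - 1 - r), e.1 = i →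
        nElt D r (1 : F) * rt D i u * (nElt D r (1 : F))⁻¹ ∈ xa D F A := by
      intro e he hei
      have := hs e he
      rw [hei] at this
      rcases hk : refl D.nroots S.T r i with _ | k
      · simp [hA, hk] at this
      · obtain ⟨hk1, hk2⟩ := S.refl_spec hr hi hk u
        rw [hk2]
        exact rt_mem_xa hk1 (by simpa [hA, hk] using this) u
    rcases ha : S.T.add r i with _ | a
    · rcases hb : S.T.add (D.nroots - 1 - r) i with _ | b
      · have e1 : i ≠ r := by rintro rfl; simp [hA] at hAr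
        have e2 : i ≠ D.nroots - 1 - r := by rintro rfl; simp [hA] at hAn
        have : refl D.nroots S.T r i = some i := by simp [refl, e1, e2, not_le.2 hi, ha, hb]
        rw [(S.refl_spec hr hi this u).2]
        exact rt_mem_xa hi hA u
      · exact key _ (List.mem_append_right _ (S.add_mem_lst (S.neg_lt' hr) hb)) rfl
    · exact key _ (List.mem_append_left _ (S.add_mem_lst hr ha)) rfl
  exact this ⟨g, hg, rfl⟩

end Sys

end H56.Inv
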