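import Cfsg.Agent.H21.Invol.Final

/-!
Rank certificates checked in stages.
-/

set_option autoImplicit false

namespace H56.Inv

open Cfsg.Lie H53.BitMat

/-- Gluing two parts of a list. -/
theorem drop_glue {α : Type*} {L A B : List α} {a b k : ℕ} (hb : b = a + k) (h1 : (L.drop a).take k = A)
    (h2 : L.drop b = B) : L.drop a = A ++ B := by
  subst hb; rw [← h1, ← h2, ← List.drop_drop, List.take_append_drop]

variable {D : ChevalleyDatum}

theorem bword_nil : bword D [] = bone (D.rank + D.nroots) := rfl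

theorem bword_step {r N : ℕ} {L X W W' : List ℕ} (hN : D.rank + D.nroots = N) (hX : bx D r = X)
    (hW : bword D L = W) (h : bmul N X W = W') : bword D (r :: L) = W' := by
  rw [← h, ← hX, ← hW, ← hN]; rfl

/-- A certificate from its stages. -/
theorem ok_of_stages {c : H21.Invol.RankCert} {N : ℕ} {W M J Pk MB : List ℕ} (hN : D.rank + D.nroots = N)
    (hk : decide (c.k ≤ N) = true) (hW : bword D c.L = W)
    (hM : (List.range N).map (fun i => W.getD i 0 ^^^ 2 ^ i) = M) (hJ : H21.Invol.projB D c.m = J)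
    (hP : H21.Invol.projB D (2 ^ c.k - 1) = Pk) (hMJ : bmul N M J = M) (hE : bmul N Pk c.E = c.E)
    (hC : bmul N c.C c.E = M) (hMB : bmul N M c.B = MB) (hA : bmul N c.A MB = Pk) : c.ok D = true := by
  have hs : H21.Invol.subOne D c.L = M := by
    rw [H21.Invol.subOne, hN, hW]; exact hM
  simp only [H21.Invol.RankCert.ok, H21.Invol.upOK, H21.Invol.lowOK, hN, hs, hJ, hP, hMJ, hE, hC, hMB, hA,
    hk, beq_self_eq_true, Bool.and_self]

end H56.Inv
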